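import Groth.Agent.PicPnLib.BaseChange
import Groth.Agent.ChowLib.Segre
import Mathlib.AlgebraicGeometry.ZariskisMainTheorem

/-!
# The zero locus of a form on projective space over a ring, on field valued points
-/

set_option autoImplicit false
set_option backward.isDefEq.respectTransparency false
set_option backward.isDefEq.respectTransparency.types false
set_option maxHeartbeats 1000000

universe u

open CategoryTheory CategoryTheory.Limits AlgebraicGeometry MvPolynomial HomogeneousLocalization TopologicalSpace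
open ChowLib

noncomputable section

namespace EquiDimProjLib

theorem mk_eq_algebraMap_mul {B : Type u} [CommRing B] (s y : B) (k : ℕ) (h : s ^ k ∈ Submonoid.powers s) :
    Localization.mk y ⟨s ^ k, h⟩ = algebraMap B (Localization.Away s) y *
      (Localization.mk 1 ⟨s, 1, pow_one s⟩ : Localization.Away s) ^ k := by
  rw [← Localization.mk_one_eq_algebraMap, Localization.mk_pow, Localization.mk_mul, one_pow, mul_one]
  congr 1
  apply Subtype.ext
  simp

attribute [local instance] MvPolynomial.algebraMvPolynomial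

variable (n : ℕ) (R : Type u) [CommRing R]

/-- The graded map `ℤ[X] → R[X]`. -/
def φ : gr.{u} n →+*ᵍ CohB1.polyGrading n R :=
  { MvPolynomial.map (σ := Fin (n + 1)) (intMap R) with
    map_mem := fun {_ _} hx => MvPolynomial.IsHomogeneous.map hx _ }

theorem φ_X (i : Fin (n + 1)) : φ n R (X i) = X i := MvPolynomial.map_X _ _

theorem irrelevant_le : HomogeneousIdeal.irrelevant (CohB1.polyGrading n R) ≤
    (HomogeneousIdeal.irrelevant (gr.{u} n)).map (φ n R) := by
  intro x hx
  have hx0 : MvPolynomial.homogeneousComponent 0 x = 0 := by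
    have := (HomogeneousIdeal.mem_irrelevant_iff _ x).mp hx
    exact (MvPolynomial.decomposition.decompose'_apply x 0).symm.trans this
  have hxs : x ∈ Ideal.span ((MvPolynomial.X (R := R)) '' (Set.univ : Set (Fin (n + 1)))) := by
    rw [MvPolynomial.mem_ideal_span_X_image]
    intro m hm
    by_contra! hcon
    have hm0 : m = 0 := Finsupp.ext fun i => hcon i trivial
    rw [MvPolynomial.homogeneousComponent_zero, MvPolynomial.C_eq_zero] at hx0
    exact MvPolynomial.mem_support_iff.mp hm (hm0 ▸ hx0)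
  refine (Ideal.span_le.mpr ?_) hxs
  rintro - ⟨i, -, rfl⟩
  have hX' := Ideal.mem_map_of_mem (φ n R) (HomogeneousIdeal.mem_irrelevant_of_mem (gr.{u} n)
    one_pos (MvPolynomial.isHomogeneous_X Z.{u} i))
  exact φ_X n R i ▸ hX'

/-- `P^n_R → P^n_ℤ`. -/
def qZ : CohB1.ProjSpace n R ⟶ PZ.{u} n := Proj.map (φ n R) (irrelevant_le n R)

theorem isPullback_qZ : IsPullback (qZ n R) (CohB1.ProjSpace.toSpec n R)
    (CohB1.ProjSpace.toSpec n Z.{u}) (specULiftZIsTerminal.from (Spec (CommRingCat.of R))) := by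
  letI : Algebra Z.{u} R := (intMap R).toAlgebra
  have h := Groth.Agent.S3554.result (R := R) (R' := Z.{u}) (gr.{u} n) (CohB1.polyGrading n R) (φ n R)
    (fun b => rfl) (irrelevant_le n R)
  rw [specULiftZIsTerminal.hom_ext (specULiftZIsTerminal.from (Spec (CommRingCat.of R)))
    (Spec.map (CommRingCat.ofHom (algebraMap Z.{u} R)))]
  exact h

/-- The base change to `Spec R` of an embedded scheme is embedded in `P^n_R`. -/
theorem exists_embedding {S X : Scheme.{u}} (sX : X ⟶ S) (i : X ⟶ CohB1.ProjSpaceOver n S) [IsClosedImmersion i]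
    (hi : i ≫ CohB1.ProjSpaceOver.toBase n S = sX) [IsProper sX] (g : Spec (CommRingCat.of R) ⟶ S) :
    ∃ j : pullback sX g ⟶ CohB1.ProjSpace n R, IsClosedImmersion j ∧
      j ≫ qZ n R = pullback.fst sX g ≫ i ≫ toPZ n S ∧ j ≫ CohB1.ProjSpace.toSpec n R = pullback.snd sX g := by
  refine ⟨(isPullback_qZ n R).lift (pullback.fst sX g ≫ i ≫ toPZ n S) (pullback.snd sX g)
    (specULiftZIsTerminal.hom_ext _ _), ?_, IsPullback.lift_fst .., IsPullback.lift_snd ..⟩
  set j := (isPullback_qZ n R).lift (pullback.fst sX g ≫ i ≫ toPZ n S) (pullback.snd sX g)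
    (specULiftZIsTerminal.hom_ext _ _)
  haveI : IsProper (pullback.snd sX g) := inferInstance
  haveI : IsProper j := by
    haveI : IsSeparated (CohB1.ProjSpace.toSpec n R) :=
      MorphismProperty.of_isPullback (P := @IsSeparated) (isPullback_qZ n R) inferInstance
    haveI : IsProper (j ≫ CohB1.ProjSpace.toSpec n R) := by
      rw [IsPullback.lift_snd]; infer_instance
    exact IsProper.of_comp j (CohB1.ProjSpace.toSpec n R)
  haveI : Mono j := by
    refine ⟨fun {W} a b hab => ?_⟩
    have h1 := congrArg (· ≫ qZ n R) hab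
    have h2 := congrArg (· ≫ CohB1.ProjSpace.toSpec n R) hab
    simp only [Category.assoc, j, IsPullback.lift_fst, IsPullback.lift_snd] at h1 h2
    refine pullback.hom_ext ?_ h2
    rw [← cancel_mono i]
    refine po_ext ?_ ?_
    · simpa only [Category.assoc] using h1
    · rw [Category.assoc, Category.assoc, hi, Category.assoc, Category.assoc, hi, pullback.condition,
        reassoc_of% h2]
  exact (IsClosedImmersion.iff_isProper_and_mono (f := j)).mpr ⟨inferInstance, inferInstance⟩

variable {R} {M : Type u} [Fintype M] {e : ℕ} (mon : M → Fin e → Fin (n + 1)) (c : M → R)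

/-- The form `∑ c_m ∏_j X_{m j}`. -/
def form : MvPolynomial (Fin (n + 1)) R := ∑ m, C (c m) * ∏ j, X (mon m j)

theorem form_mem : form n mon c ∈ CohB1.polyGrading n R e := by
  refine Submodule.sum_mem _ fun m _ => ?_
  have h : (∏ j, (X (mon m j) : MvPolynomial (Fin (n + 1)) R)).IsHomogeneous (∑ _j : Fin e, 1) :=
    MvPolynomial.IsHomogeneous.prod _ _ _ fun j _ => MvPolynomial.isHomogeneous_X _ _
  simpa using (MvPolynomial.isHomogeneous_C (Fin (n + 1)) (c m)).mul h

theorem isAffineOpen_form (he : 0 < e) : IsAffineOpen (Proj.basicOpen (CohB1.polyGrading n R) (form n mon c)) :=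
  Proj.isAffineOpen_basicOpen _ _ (form_mem n mon c) he

/-- Where a field valued point meets the complement of the zero locus of a form. -/
theorem mem_form_iff (he : 0 < e) {Ω : Type u} [Field Ω] (τ : Spec (CommRingCat.of Ω) ⟶ CohB1.ProjSpace n R)
    (ρ : R →+* Ω) (hρ : τ ≫ CohB1.ProjSpace.toSpec n R = Spec.map (CommRingCat.ofHom ρ))
    (v : Fin (n + 1) → Γ(Spec (CommRingCat.of Ω), ⊤)) (a : Fin (n + 1)) (hu : IsUnit (v a))
    (hv : τ ≫ qZ n R = pt v a hu) :
    τ (IsLocalRing.closedPoint Ω) ∈ Proj.basicOpen (CohB1.polyGrading n R) (form n mon c) ↔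
      ∑ m, ρ (c m) * ∏ j, (Scheme.ΓSpecIso (CommRingCat.of Ω)).hom (v (mon m j)) ≠ 0 := by
  classical
  set 𝒜 := CohB1.polyGrading n R
  set s : MvPolynomial (Fin (n + 1)) R := φ n R (X a) with hs
  have hs1 : s ∈ 𝒜 1 := (φ n R).2 (X_mem a)
  set ev := (Scheme.ΓSpecIso (CommRingCat.of Ω)).hom.hom with hev
  -- the point lies in the chart
  have hpre : ∀ p, τ p ∈ Proj.basicOpen 𝒜 s := fun p => by
    have h : (τ ≫ qZ n R) p ∈ Dplus.{u} a := by
      rw [hv]
      show p ∈ pt v a hu ⁻¹ᵁ Dplus a
      rw [pt_preimage, Scheme.basicOpen_of_isUnit _ hu]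
      trivial
    exact h
  have hr : Set.range τ ⊆ Set.range (Proj.awayι 𝒜 s hs1 one_pos) := by
    rintro _ ⟨p, rfl⟩
    show τ p ∈ Set.range (Proj.awayι 𝒜 s hs1 one_pos)
    rw [← Scheme.Hom.coe_opensRange, Proj.opensRange_awayι]
    exact hpre p
  obtain ⟨ψ, hψ⟩ := Spec.map_surjective (IsOpenImmersion.lift (Proj.awayι 𝒜 s hs1 one_pos) τ hr)
  have hτ : τ = Spec.map ψ ≫ Proj.awayι 𝒜 s hs1 one_pos := by
    rw [hψ, IsOpenImmersion.lift_fac]
  -- the coordinates
  have hcoord : ∀ b, ψ.hom (Away.map (φ n R) (X a) (coordRing a b)) * ev (v a) = ev (v b) := by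
    intro b
    have h1 : τ ≫ qZ n R = Spec.map (CommRingCat.ofHom (Away.map (φ n R) (X a)) ≫ ψ) ≫ chart a := by
      rw [hτ, Category.assoc, Spec.map_comp, Category.assoc]
      congr 1
      exact Proj.awayι_comp_map (φ n R) (irrelevant_le n R) one_pos (X a) (X_mem a)
    have h2 : Spec.map (CommRingCat.ofHom (Away.map (φ n R) (X a)) ≫ ψ) =
        toSpecOf (awayEval v (X a) (by simpa using hu)) := by
      rw [← cancel_mono (chart.{u} a), ← h1, hv]
      rfl
    rw [toSpecOf, ← SpecMap_ΓSpecIso_hom, ← Spec.map_comp] at h2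
    have h3 := RingHom.congr_fun (congrArg CommRingCat.Hom.hom (Spec.map_injective h2)) (coordRing a b)
    simp only [CommRingCat.hom_comp, CommRingCat.hom_ofHom, RingHom.comp_apply] at h3
    rw [h3, ← map_mul, awayEval_coord]
  -- the constants
  have hconst : ∀ x : R, ψ.hom (fromZeroRingHom 𝒜 (Submonoid.powers s) (algebraMap R (𝒜 0) x)) = ρ x := by
    intro x
    have h : Spec.map ψ ≫ Spec.map (CommRingCat.ofHom (fromZeroRingHom 𝒜 (Submonoid.powers s))) ≫
        Spec.map (CommRingCat.ofHom (algebraMap R (𝒜 0))) = Spec.map (CommRingCat.ofHom ρ) := by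
      rw [← hρ, hτ, Category.assoc, CohB1.ProjSpace.toSpec, Proj.awayι_toSpecZero_assoc]
    rw [← Spec.map_comp, ← Spec.map_comp] at h
    have h3 := RingHom.congr_fun (congrArg CommRingCat.Hom.hom (Spec.map_injective h)) x
    simpa only [CommRingCat.hom_comp, CommRingCat.hom_ofHom, RingHom.comp_apply] using h3
  -- the fraction
  have hel : Away.isLocalizationElem hs1 (form_mem n mon c) =
      ∑ m, fromZeroRingHom 𝒜 (Submonoid.powers s) (algebraMap R (𝒜 0) (c m)) *
        ∏ j, Away.map (φ n R) (X a) (coordRing a (mon m j)) := by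
    apply HomogeneousLocalization.val_injective
    set L := Localization.Away s
    set w : L := Localization.mk 1 ⟨s, 1, pow_one s⟩ with hw
    have hlhs : (Away.isLocalizationElem hs1 (form_mem n mon c)).val = algebraMap _ L (form n mon c) * w ^ e :=
      (Away.val_mk ..).trans ((mk_eq_algebraMap_mul s _ e _).trans (by rw [pow_one]))
    have hr1 : ∀ b, (Away.map (φ n R) (X a) (coordRing a b)).val = algebraMap _ L (X b) * w := fun b => by
      rw [coordRing, Away.map_mk, Away.val_mk]
      exact (mk_eq_algebraMap_mul s _ 1 _).trans (by rw [pow_one, φ_X])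
    have hr0 : ∀ x, (fromZeroRingHom 𝒜 (Submonoid.powers s) (algebraMap R (𝒜 0) x)).val = algebraMap _ L (C x) :=
      fun x => by
        rw [← Localization.mk_one_eq_algebraMap]
        rfl
    rw [hlhs]
    show _ = algebraMap (Away 𝒜 s) L _
    have hr1 : ∀ b, algebraMap (Away 𝒜 s) L (Away.map (φ n R) (X a) (coordRing a b)) = algebraMap _ L (X b) * w := hr1
    have hr0 : ∀ x, algebraMap (Away 𝒜 s) L (fromZeroRingHom 𝒜 (Submonoid.powers s) (algebraMap R (𝒜 0) x)) =
        algebraMap _ L (C x) := hr0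
    rw [map_sum, form, map_sum, Finset.sum_mul]
    refine Finset.sum_congr rfl fun m _ => ?_
    rw [map_mul, map_mul, map_prod, map_prod, hr0]
    simp only [hr1]
    rw [Finset.prod_mul_distrib, Finset.prod_const, Finset.card_univ, Fintype.card_fin, mul_assoc]
  -- conclude
  rw [hτ, Scheme.Hom.comp_apply]
  show Spec.map ψ (IsLocalRing.closedPoint Ω) ∈
    Proj.awayι 𝒜 s hs1 one_pos ⁻¹ᵁ Proj.basicOpen 𝒜 (form n mon c) ↔ _
  rw [Proj.awayι_preimage_basicOpen 𝒜 hs1 one_pos (form_mem n mon c) he]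
  have hclosed : (IsLocalRing.closedPoint Ω).asIdeal = ⊥ :=
    IsLocalRing.isField_iff_maximalIdeal_eq.1 (Field.toIsField Ω)
  show ¬ ψ.hom (Away.isLocalizationElem hs1 (form_mem n mon c)) ∈ (IsLocalRing.closedPoint Ω).asIdeal ↔ _
  rw [hclosed, Ideal.mem_bot, hel, map_sum]
  have hva : ev (v a) ≠ 0 := (hu.map ev).ne_zero
  have hsum : (∑ m, ψ.hom (fromZeroRingHom 𝒜 (Submonoid.powers s) (algebraMap R (𝒜 0) (c m)) *
        ∏ j, Away.map (φ n R) (X a) (coordRing a (mon m j)))) * ev (v a) ^ e =
      ∑ m, ρ (c m) * ∏ j, ev (v (mon m j)) := by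
    rw [Finset.sum_mul]
    refine Finset.sum_congr rfl fun m _ => ?_
    rw [map_mul, map_prod, hconst, mul_assoc, ← Fin.prod_const, ← Finset.prod_mul_distrib]
    simp only [hcoord]
  rw [← hev] at *
  change ¬ _ = 0 ↔ ∑ m, ρ (c m) * ∏ j, ev (v (mon m j)) ≠ 0
  rw [← hsum, mul_ne_zero_iff]
  exact ⟨fun h => ⟨h, pow_ne_zero _ hva⟩, fun h => h.1⟩

end EquiDimProjLib

end
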