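import Mathlib

/-!
# Generic coefficients satisfy few linear relations with algebraic coefficients
-/

set_option autoImplicit false
set_option backward.isDefEq.respectTransparency false
set_option backward.isDefEq.respectTransparency.types false

universe u

open AlgebraicIndependent

namespace EquiDimProjLib

variable {k Ω : Type u} [Field k] [Field Ω] [Algebra k Ω]

/-- Independent elements algebraic over a finite set are at most as many as the set. -/
theorem card_le_of_algebraic (s : Finset Ω) {M : Type u} [Fintype M] (u : M → Ω) (hu : AlgebraicIndependent k u)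
    (h : ∀ m, IsAlgebraic (IntermediateField.adjoin k (s : Set Ω)) (u m)) : Fintype.card M ≤ s.card := by
  classical
  have hI : (AlgebraicIndependent.matroid k Ω).Indep (Set.range u) := by
    rw [matroid_indep_iff]
    exact hu.to_subtype_range
  have hsub : Set.range u ⊆ (AlgebraicIndependent.matroid k Ω).closure (s : Set Ω) := by
    rw [matroid_closure_eq]
    rintro _ ⟨m, rfl⟩
    rw [SetLike.mem_coe, Subalgebra.mem_algebraicClosure]
    exact IntermediateField.isAlgebraic_adjoin_iff.1 (h m)
  have h1 := hI.encard_le_eRk_of_subset hsub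
  rw [Matroid.eRk_closure_eq] at h1
  have h2 := h1.trans ((AlgebraicIndependent.matroid k Ω).eRk_le_encard _)
  rw [Set.encard_coe_eq_coe_finsetCard, ← (Set.toFinite _).cast_ncard_eq] at h2
  rw [Set.ncard_range_of_injective hu.injective, Nat.card_eq_fintype_card] at h2
  exact_mod_cast h2

/-- Independent coefficients cannot satisfy more relations with coefficients algebraic over `G`
than `G` has elements. -/
theorem no_relation (G : Finset Ω) {M : Type u} [Fintype M] (u : M → Ω) (hu : AlgebraicIndependent k u)
    {ι : Type u} [Fintype ι] (v : ι → M → Ω)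
    (hv : ∀ l m, IsAlgebraic (IntermediateField.adjoin k (G : Set Ω)) (v l m))
    (hind : LinearIndependent Ω v) (hrel : ∀ l, ∑ m, u m * v l m = 0) (hcard : G.card < Fintype.card ι) :
    False := by
  classical
  set K := IntermediateField.adjoin k (G : Set Ω)
  set E := algebraicClosure K Ω
  let Ψ : (M → E) →ₗ[E] Ω :=
    { toFun := fun a => ∑ m, u m * (a m : Ω)
      map_add' := fun a b => by simp [mul_add, Finset.sum_add_distrib]
      map_smul' := fun c a => by
        simp only [Pi.smul_apply, smul_eq_mul, RingHom.id_apply, Algebra.smul_def, Finset.mul_sum]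
        refine Finset.sum_congr rfl fun m _ => ?_
        show u m * ((c : Ω) * (a m : Ω)) = (c : Ω) * (u m * (a m : Ω))
        ring }
  let v' : ι → M → E := fun l m => ⟨v l m, mem_algebraicClosure_iff.2 (hv l m)⟩
  have hv'ind : LinearIndependent E v' := by
    rw [Fintype.linearIndependent_iff]
    intro c hc l
    have := Fintype.linearIndependent_iff.1 hind (fun l => (c l : Ω)) (by
      funext m
      have h := congrArg (fun z : M → E => ((z m : E) : Ω)) hc
      simpa [Finset.sum_apply] using h) l
    exact Subtype.ext this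
  have hker : Fintype.card ι ≤ Module.finrank E (LinearMap.ker Ψ) := by
    have : LinearIndependent E (fun l => (⟨v' l, LinearMap.mem_ker.2 (hrel l)⟩ : LinearMap.ker Ψ)) :=
      LinearIndependent.of_comp (LinearMap.ker Ψ).subtype hv'ind
    exact this.fintype_card_le_finrank
  have hrank := LinearMap.finrank_range_add_finrank_ker Ψ
  rw [Module.finrank_pi] at hrank
  let b := Module.finBasis E (LinearMap.range Ψ)
  set s : Finset Ω := G ∪ Finset.univ.image (fun j => (b j : Ω))
  have hs : s.card ≤ G.card + Module.finrank E (LinearMap.range Ψ) := by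
    refine (Finset.card_union_le _ _).trans (Nat.add_le_add_left ?_ _)
    exact Finset.card_image_le.trans (by simp)
  have hGs : K ≤ IntermediateField.adjoin k (s : Set Ω) :=
    IntermediateField.adjoin.mono k _ _ (by simp [s])
  have halgE : ∀ e : E, IsAlgebraic (IntermediateField.adjoin k (s : Set Ω)) (e : Ω) := fun e => by
    letI : Algebra K (IntermediateField.adjoin k (s : Set Ω)) := (IntermediateField.inclusion hGs).toAlgebra
    haveI : IsScalarTower K (IntermediateField.adjoin k (s : Set Ω)) Ω := IsScalarTower.of_algebraMap_eq' rfl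
    exact (mem_algebraicClosure_iff.1 e.2).extendScalars (RingHom.injective _)
  have halg : ∀ m, IsAlgebraic (IntermediateField.adjoin k (s : Set Ω)) (u m) := fun m => by
    have hm : u m ∈ LinearMap.range Ψ := ⟨Pi.single m 1, by
      show ∑ i, u i * ((Pi.single m (1 : E) : M → E) i : Ω) = u m
      rw [Finset.sum_eq_single m]
      · simp
      · intro i _ hi; simp [Pi.single_eq_of_ne hi]
      · simp⟩
    have hr := congrArg Subtype.val (b.sum_repr ⟨u m, hm⟩)
    rw [Submodule.coe_sum] at hr
    replace hr := hr.trans (show ((⟨u m, hm⟩ : LinearMap.range Ψ) : Ω) = u m from rfl)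
    rw [← hr]
    have key : ∀ j, IsAlgebraic (IntermediateField.adjoin k (s : Set Ω))
        ((b.repr ⟨u m, hm⟩ j • b j : LinearMap.range Ψ) : Ω) := fun j => by
      rw [Submodule.coe_smul, Algebra.smul_def]
      refine (halgE _).mul (isAlgebraic_algebraMap
        (⟨(b j : Ω), IntermediateField.subset_adjoin k _ (by simp [s])⟩ : IntermediateField.adjoin k (s : Set Ω)))
    exact Finset.sum_induction _ (IsAlgebraic (IntermediateField.adjoin k (s : Set Ω))) (fun a b => IsAlgebraic.add)
      isAlgebraic_zero fun j _ => key j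
  have h1 := card_le_of_algebraic s u hu halg
  omega

/-- Evaluation of monomials at pairwise non-proportional vectors gives independent rows. -/
theorem linearIndependent_monomials {N : ℕ} {ι : Type u} [Fintype ι] {e : ℕ} (c : ι → Fin (N + 1) → Ω)
    (hι : Fintype.card ι = e + 1) (hne : ∀ l, ∃ i, c l i ≠ 0)
    (hdist : ∀ l l', l ≠ l' → ∃ i j, c l i * c l' j ≠ c l j * c l' i) :
    LinearIndependent Ω (fun (l : ι) (m : Fin e → Fin (N + 1)) => ∏ t, c l (m t)) := by
  classical
  rw [Fintype.linearIndependent_iff]
  intro a ha l₀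
  have hcard : Fintype.card {l : ι // l ≠ l₀} = e := by
    rw [Fintype.card_subtype_compl, Fintype.card_subtype_eq, hι]; simp
  let τ : Fin e ≃ {l : ι // l ≠ l₀} := (Fintype.equivFinOfCardEq hcard).symm
  choose p q hpq using fun t : Fin e => hdist l₀ (τ t).1 (τ t).2.symm
  -- linear forms vanishing at the other vectors
  let ℓ : Fin e → Fin (N + 1) → Ω := fun t => Pi.single (p t) (c (τ t).1 (q t)) - Pi.single (q t) (c (τ t).1 (p t))
  have hℓ : ∀ t l, ∑ i, ℓ t i * c l i = c (τ t).1 (q t) * c l (p t) - c (τ t).1 (p t) * c l (q t) := by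
    intro t l
    simp [ℓ, sub_mul, Finset.sum_sub_distrib, Pi.single_apply]
  have hexp : ∀ l, ∏ t, (∑ i, ℓ t i * c l i) = ∑ m : Fin e → Fin (N + 1), (∏ t, ℓ t (m t)) * ∏ t, c l (m t) := by
    intro l
    rw [Fintype.prod_sum]
    exact Finset.sum_congr rfl fun m _ => Finset.prod_mul_distrib
  have hz : ∑ l, a l * ∏ t, (∑ i, ℓ t i * c l i) = 0 := by
    simp only [hexp, Finset.mul_sum]
    rw [Finset.sum_comm]
    refine Finset.sum_eq_zero fun m _ => ?_
    have h := congrFun ha m
    simp only [Finset.sum_apply, Pi.smul_apply, smul_eq_mul, Pi.zero_apply] at h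
    calc ∑ l, a l * ((∏ t, ℓ t (m t)) * ∏ t, c l (m t))
        = (∏ t, ℓ t (m t)) * ∑ l, a l * ∏ t, c l (m t) := by
          rw [Finset.mul_sum]; exact Finset.sum_congr rfl fun l _ => by ring
      _ = 0 := by rw [h, mul_zero]
  rw [Finset.sum_eq_single l₀] at hz
  · refine (mul_eq_zero.1 hz).resolve_right (Finset.prod_ne_zero_iff.2 fun t _ => ?_)
    rw [hℓ, sub_ne_zero]
    intro h
    exact hpq t (by linear_combination h)
  · intro l _ hl
    refine mul_eq_zero_of_right _ (Finset.prod_eq_zero (Finset.mem_univ (τ.symm ⟨l, hl⟩)) ?_)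
    rw [hℓ, Equiv.apply_symm_apply]
    ring
  · simp

end EquiDimProjLib
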