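import Groth.Agent.ChowLib.Segre
import Groth.Agent.QFactDescLib.Dim
import Mathlib.AlgebraicGeometry.AlgClosed.Basic

/-!
# Field valued points over closed points
-/

set_option autoImplicit false
set_option backward.isDefEq.respectTransparency false
set_option backward.isDefEq.respectTransparency.types false

universe u

open CategoryTheory CategoryTheory.Limits AlgebraicGeometry TopologicalSpace Topology
open ChowLib

namespace EquiDimProjLib

theorem eq_closedPoint {Ω : Type u} [Field Ω] (p : Spec (CommRingCat.of Ω)) : p = IsLocalRing.closedPoint Ω :=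
  Subsingleton.elim (α := PrimeSpectrum Ω) _ _

theorem exists_residue_map {W : Scheme.{u}} {K : Type u} [Field K] (w : W ⟶ Spec (CommRingCat.of K))
    [LocallyOfFiniteType w] (c : W) (hc : IsClosed ({c} : Set W)) :
    ∃ φ : CommRingCat.of K ⟶ W.residueField c, φ.hom.IsIntegral ∧ W.fromSpecResidueField c ≫ w = Spec.map φ := by
  refine ⟨Spec.preimage (W.fromSpecResidueField c ≫ w), ?_, (Spec.map_preimage _).symm⟩
  haveI : IsFinite (W.fromSpecResidueField c ≫ w) := by
    rw [isClosed_singleton_iff_isClosedImmersion] at hc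
    rw [isFinite_iff_locallyOfFiniteType_of_jacobsonSpace]
    infer_instance
  rw [← IsIntegralHom.SpecMap_iff, Spec.map_preimage]
  infer_instance

/-- A closed point carries a point with values in any algebraically closed extension. -/
theorem exists_point {W : Scheme.{u}} {K : Type u} [Field K] (w : W ⟶ Spec (CommRingCat.of K))
    [LocallyOfFiniteType w] (c : W) (hc : IsClosed ({c} : Set W)) {Ω : Type u} [Field Ω] [IsAlgClosed Ω]
    (σ : K →+* Ω) :
    ∃ τ : Spec (CommRingCat.of Ω) ⟶ W, τ (IsLocalRing.closedPoint Ω) = c ∧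
      τ ≫ w = Spec.map (CommRingCat.ofHom σ) := by
  obtain ⟨φ, hφ, hw⟩ := exists_residue_map w c hc
  letI : Algebra K Ω := σ.toAlgebra
  letI : Algebra K (W.residueField c) := φ.hom.toAlgebra
  haveI : Algebra.IsIntegral K (W.residueField c) := ⟨hφ⟩
  let ψ : (W.residueField c) →ₐ[K] Ω := IsAlgClosed.lift
  refine ⟨Spec.map (CommRingCat.ofHom ψ.toRingHom) ≫ W.fromSpecResidueField c, ?_, ?_⟩
  · rw [Scheme.Hom.comp_apply]
    exact W.fromSpecResidueField_apply c _
  · rw [Category.assoc, hw, ← Spec.map_comp]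
    congr 1
    ext z
    exact ψ.commutes z

/-- The coordinates of a point over a closed point are algebraic. -/
theorem exists_algebraic_coords {N : ℕ} {W : Scheme.{u}} {K : Type u} [Field K] (w : W ⟶ Spec (CommRingCat.of K))
    [LocallyOfFiniteType w] (T : W ⟶ PZ.{u} N) {Ω : Type u} [Field Ω] (σ : K →+* Ω)
    (τ : Spec (CommRingCat.of Ω) ⟶ W) (hc : IsClosed ({τ (IsLocalRing.closedPoint Ω)} : Set W))
    (hτ : τ ≫ w = Spec.map (CommRingCat.ofHom σ)) :
    ∃ (v : Fin (N + 1) → Γ(Spec (CommRingCat.of Ω), ⊤)) (a : Fin (N + 1)) (hu : IsUnit (v a)),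
      τ ≫ T = pt v a hu ∧ ∀ b, σ.IsIntegralElem ((Scheme.ΓSpecIso (CommRingCat.of Ω)).hom (v b)) := by
  set c := τ (IsLocalRing.closedPoint Ω) with hcdef
  obtain ⟨φ, hφ, hw⟩ := exists_residue_map w c hc
  obtain ⟨⟨c', ψ⟩, hψ⟩ := (Scheme.SpecToEquivOfField Ω W).symm.surjective τ
  have hc' : c' = c := by
    rw [hcdef, ← hψ]
    show c' = (Spec.map ψ ≫ W.fromSpecResidueField c') (IsLocalRing.closedPoint Ω)
    rw [Scheme.Hom.comp_apply]
    exact (W.fromSpecResidueField_apply c' _).symm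
  subst hc'
  replace hψ : Spec.map ψ ≫ W.fromSpecResidueField c = τ := hψ
  set b := W.fromSpecResidueField c ≫ T
  let pnt : Spec (W.residueField c) := IsLocalRing.closedPoint (W.residueField c)
  obtain ⟨a, ha⟩ : ∃ a, b pnt ∈ Dplus.{u} a := Opens.mem_iSup.1 (iSup_Dplus.{u}.ge (Opens.mem_top _))
  have htop : b ⁻¹ᵁ Dplus a = ⊤ := top_le_iff.1 fun p _ => by
    show b p ∈ Dplus a
    rwa [show p = pnt from eq_closedPoint (Ω := W.residueField c) p]
  obtain ⟨v, hu, hv, -⟩ := exists_pt b a htop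
  refine ⟨fun i => (Spec.map ψ).appTop (v i), a, hu.map (Spec.map ψ).appTop.hom, ?_, fun i => ?_⟩
  · rw [← hψ, Category.assoc]
    show Spec.map ψ ≫ b = _
    rw [hv, comp_pt]
  · have h1 : (Scheme.ΓSpecIso (CommRingCat.of Ω)).hom ((Spec.map ψ).appTop (v i)) =
        ψ ((Scheme.ΓSpecIso (W.residueField c)).hom (v i)) :=
      congr($(Scheme.ΓSpecIso_naturality ψ) (v i))
    rw [h1]
    have h2 : φ ≫ ψ = CommRingCat.ofHom σ := by
      apply Spec.map_injective
      rw [← hτ, ← hψ, Spec.map_comp, Category.assoc, hw]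
    obtain ⟨p, hp, hp0⟩ := hφ ((Scheme.ΓSpecIso (W.residueField c)).hom (v i))
    refine ⟨p, hp, ?_⟩
    rw [show σ = ψ.hom.comp φ.hom by rw [← CommRingCat.hom_comp, h2]; rfl, ← Polynomial.hom_eval₂, hp0, map_zero]

/-- A closed set of full dimension in a proper scheme over a field survives removing few affines. -/
theorem exists_closed_notMem {P : Scheme.{u}} {K : Type u} [Field K] (f : P ⟶ Spec (CommRingCat.of K)) [IsProper f] :
    ∀ (r : ℕ) (U : Fin r → P.Opens), (∀ j, IsAffineOpen (U j)) → ∀ Z : Set P, IsClosed Z →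
      (r : WithBot ℕ∞) ≤ topologicalKrullDim Z → ∃ p ∈ Z, IsClosed ({p} : Set P) ∧ ∀ j, p ∉ U j := by
  intro r
  induction r with
  | zero =>
    intro U _ Z hZ h
    haveI : QuasiSober Z := hZ.isClosedEmbedding_subtypeVal.quasiSober
    haveI : CompactSpace P := QuasiCompact.compactSpace_of_compactSpace f
    obtain ⟨c, -⟩ := FibDimLib.exists_specChain h
    obtain ⟨p, hp, hpc⟩ := hZ.exists_closed_singleton ⟨(c 0).1, (c 0).2⟩
    exact ⟨p, hp, hpc, fun j => j.elim0⟩
  | succ r ih =>
    intro U hU Z hZ h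
    obtain ⟨p, hp, hpc, hj⟩ := ih (fun j => U j.succ) (fun j => hU _) (Z \ (U 0 : Set P)) (hZ.sdiff (U 0).isOpen)
      (QFactDescLib.dim_cut_affine f (hU 0) hZ h)
    exact ⟨p, hp.1, hpc, fun j => Fin.cases hp.2 hj j⟩

end EquiDimProjLib
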