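import Groth.Agent.QFactDescLib.Section

/-!
# Disjoint finite sets of closed points cut out by affine opens in a fibre
-/

set_option autoImplicit false
set_option backward.isDefEq.respectTransparency false
set_option backward.isDefEq.respectTransparency.types false

universe u

open CategoryTheory CategoryTheory.Limits AlgebraicGeometry TopologicalSpace Topology

namespace EquiDimProjLib

variable {X F : Scheme.{u}} [IsNoetherian F]

/-- Cutting a `d` dimensional scheme down to finitely many closed points, avoiding a finite set. -/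
theorem exists_cuts (q : F ⟶ X) (hAF : ∀ s : Finset X, ∃ O : X.Opens, IsAffineOpen O ∧ ∀ x ∈ s, x ∈ O) :
    ∀ (d : ℕ) (G : Set F), IsClosed G → topologicalKrullDim G ≤ (d : WithBot ℕ∞) → ∀ P : Finset F,
      ∃ O : Fin d → X.Opens, (∀ j, IsAffineOpen (O j)) ∧
        {c | c ∈ G ∧ ∀ j, q c ∉ O j}.Finite ∧ (∀ c ∈ G, (∀ j, q c ∉ O j) → IsClosed ({c} : Set F)) ∧
        (0 < d → ∀ p ∈ P, ∃ j, q p ∈ O j) := by
  classical
  intro d
  induction d with
  | zero =>
    intro G hG hdim P
    have hfin := QFactDescLib.finite_of_dim_le_zero hG hdim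
    refine ⟨Fin.elim0, fun j => j.elim0, hfin.subset fun c hc => hc.1, fun c hc _ => ?_, fun h => absurd h (lt_irrefl 0)⟩
    rw [← closure_eq_iff_isClosed]
    refine Set.Subset.antisymm (fun b hb => ?_) subset_closure
    by_contra hne
    haveI : QuasiSober G := hG.isClosedEmbedding_subtypeVal.quasiSober
    have hbG : b ∈ G := closure_minimal (Set.singleton_subset_iff.2 hc) hG hb
    have hch : FibDimLib.IsSpecChain (![⟨c, hc⟩, ⟨b, hbG⟩] : Fin 2 → G) := by
      refine ⟨?_, ?_⟩
      · intro i j hij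
        fin_cases i <;> fin_cases j <;> simp_all
      · intro i j hij
        rw [← IsInducing.subtypeVal.specializes_iff]
        fin_cases i <;> fin_cases j <;>
          first | exact specializes_rfl | exact specializes_iff_mem_closure.2 hb | simp at hij
    have := hch.le_topologicalKrullDim.trans hdim
    norm_cast at this
  | succ d ih =>
    intro G hG hdim P
    obtain ⟨O₀, hO₀, hmem⟩ := hAF (((QFactDescLib.finite_maximal hG).toFinset ∪ P).image q)
    have hG' : IsClosed (G \ q ⁻¹' (O₀ : Set X)) := hG.sdiff (O₀.isOpen.preimage q.continuous)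
    have hdim' : topologicalKrullDim ↥(G \ q ⁻¹' (O₀ : Set X)) ≤ (d : WithBot ℕ∞) :=
      QFactDescLib.dim_drop hG hG' Set.sdiff_subset (fun ξ hξ hmax hξG => hξG.2 (hmem _ (Finset.mem_image_of_mem q
        (Finset.mem_union_left _ ((Set.Finite.mem_toFinset _).2 ⟨hξ, hmax⟩))))) hdim
    obtain ⟨O, hO, hfin, hcl, -⟩ := ih _ hG' hdim' ∅
    refine ⟨Fin.cons O₀ O, Fin.cases hO₀ hO, hfin.subset ?_, fun c hc hcO => ?_, fun _ p hp => ⟨0, ?_⟩⟩
    · rintro c ⟨hc, hcO⟩
      exact ⟨⟨hc, hcO 0⟩, fun j => hcO j.succ⟩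
    · exact hcl c ⟨hc, hcO 0⟩ fun j => hcO j.succ
    · exact hmem _ (Finset.mem_image_of_mem q (Finset.mem_union_right _ hp))

/-- Several disjoint such finite sets. -/
theorem exists_disjoint_cuts (q : F ⟶ X) (hAF : ∀ s : Finset X, ∃ O : X.Opens, IsAffineOpen O ∧ ∀ x ∈ s, x ∈ O)
    (d : ℕ) (hd : 0 < d) (hdim : topologicalKrullDim F ≤ (d : WithBot ℕ∞)) :
    ∀ r : ℕ, ∃ O : Fin r → Fin d → X.Opens, (∀ l j, IsAffineOpen (O l j)) ∧
      (∀ l, {c | ∀ j, q c ∉ O l j}.Finite) ∧ (∀ l c, (∀ j, q c ∉ O l j) → IsClosed ({c} : Set F)) ∧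
      ∀ l l' c, (∀ j, q c ∉ O l j) → (∀ j, q c ∉ O l' j) → l = l' := by
  classical
  have huniv : topologicalKrullDim (Set.univ : Set F) ≤ (d : WithBot ℕ∞) :=
    ((Homeomorph.Set.univ F).isHomeomorph.topologicalKrullDim_eq _).trans_le hdim
  intro r
  induction r with
  | zero => exact ⟨Fin.elim0, fun l => l.elim0, fun l => l.elim0, fun l => l.elim0, fun l => l.elim0⟩
  | succ r ih =>
    obtain ⟨O, hO, hfin, hcl, hdis⟩ := ih
    obtain ⟨O₀, hO₀, hfin₀, hcl₀, hP⟩ := exists_cuts q hAF d Set.univ isClosed_univ huniv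
      (Finset.univ.biUnion fun l => (hfin l).toFinset)
    have hsep : ∀ (l : Fin r) c, (∀ j, q c ∉ O₀ j) → ¬ ∀ j, q c ∉ O l j := fun l c h0 hl => by
      obtain ⟨j, hj⟩ := hP hd c (Finset.mem_biUnion.2 ⟨l, Finset.mem_univ _, (Set.Finite.mem_toFinset _).2 hl⟩)
      exact h0 j hj
    refine ⟨Fin.cons O₀ O, Fin.cases hO₀ hO, Fin.cases (hfin₀.subset fun c hc => ⟨trivial, hc⟩) hfin,
      Fin.cases (fun c hc => hcl₀ c trivial hc) hcl, ?_⟩
    · intro l
      induction l using Fin.cases with
      | zero =>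
        intro l'
        induction l' using Fin.cases with
        | zero => exact fun _ _ _ => rfl
        | succ l' => exact fun c h h' => absurd h' (hsep l' c h)
      | succ l =>
        intro l'
        induction l' using Fin.cases with
        | zero => exact fun c h h' => absurd h (hsep l c h')
        | succ l' => exact fun c h h' => congrArg Fin.succ (hdis l l' c h h')

end EquiDimProjLib
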