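import Groth.Agent.EquiDimProjLib.Form
import Groth.Agent.EquiDimProjLib.Indep
import Groth.Agent.EquiDimProjLib.Points
import Groth.Agent.EquiDimProjLib.Sets
import Groth.Agent.FibDimLib.Semicont

/-!
# A general hypersurface of large degree contains no component of any fibre
-/

set_option autoImplicit false
set_option backward.isDefEq.respectTransparency false
set_option backward.isDefEq.respectTransparency.types false
set_option maxHeartbeats 1000000

universe u

open CategoryTheory CategoryTheory.Limits AlgebraicGeometry TopologicalSpace Topology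
open ChowLib

namespace EquiDimProjLib

variable {k : Type u} [Field k] {X Y : Scheme.{u}}

/-- Residue fields of points of an affine open are generated by generators of its coordinate ring. -/
theorem mem_adjoin_generators {V : Y.Opens} (hV : IsAffineOpen V) {sY : Y ⟶ Spec (CommRingCat.of k)}
    {φ : CommRingCat.of k ⟶ Γ(Y, V)} (hφ : Spec.map φ = hV.fromSpec ≫ sY) (s : Finset Γ(Y, V))
    (hs : letI := φ.hom.toAlgebra; Algebra.adjoin k (s : Set Γ(Y, V)) = ⊤) {y : Y} (hy : y ∈ V)
    {Ω : Type u} [Field Ω] [Algebra k Ω] (σ : Y.residueField y →+* Ω)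
    (hσ : Spec.map (CommRingCat.ofHom σ) ≫ Y.fromSpecResidueField y ≫ sY =
      Spec.map (CommRingCat.ofHom (algebraMap k Ω))) (z : Y.residueField y) :
    σ z ∈ IntermediateField.adjoin k
      ((fun g => σ (Y.residue y (Y.presheaf.germ V y hy g))) '' (s : Set Γ(Y, V))) := by
  letI := φ.hom.toAlgebra
  let θ : Γ(Y, V) →+* Ω := σ.comp ((Y.presheaf.germ V y hy ≫ Y.residue y).hom)
  have hθ : ∀ c : k, θ (φ c) = algebraMap k Ω c := by
    have h : Spec.map (φ ≫ Y.presheaf.germ V y hy ≫ Y.residue y ≫ CommRingCat.ofHom σ) =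
        Spec.map (CommRingCat.ofHom (algebraMap k Ω)) := by
      rw [← hσ, Spec.map_comp, Spec.map_comp, Spec.map_comp, hφ, Scheme.fromSpecResidueField,
        ← IsAffineOpen.fromSpecStalk_eq_fromSpecStalk hV hy, IsAffineOpen.fromSpecStalk]
      simp only [Category.assoc]
    exact fun c => congr($(Spec.map_injective h) c)
  let θa : Γ(Y, V) →ₐ[k] Ω := { θ with commutes' := hθ }
  set L := IntermediateField.adjoin k ((fun g => σ (Y.residue y (Y.presheaf.germ V y hy g))) '' (s : Set Γ(Y, V)))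
  have hθL : ∀ g, θa g ∈ L := fun g => by
    have h : g ∈ Algebra.adjoin k (s : Set Γ(Y, V)) := by rw [hs]; trivial
    have h2 : θa g ∈ (Algebra.adjoin k (s : Set Γ(Y, V))).map θa := Subalgebra.mem_map.2 ⟨g, h, rfl⟩
    rw [AlgHom.map_adjoin] at h2
    exact IntermediateField.algebra_adjoin_le_adjoin k _ h2
  obtain ⟨w, rfl⟩ := Y.residue_surjective y z
  letI := Y.presheaf.algebra_section_stalk ⟨y, hy⟩
  haveI := hV.isLocalization_stalk ⟨y, hy⟩
  obtain ⟨⟨a, b⟩, hab⟩ := IsLocalization.surj (hV.primeIdealOf ⟨y, hy⟩).asIdeal.primeCompl w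
  have hb : IsUnit (Y.presheaf.germ V y hy (b : Γ(Y, V))) :=
    IsLocalization.map_units (Y.presheaf.stalk y) b
  have h3 : σ (Y.residue y w) * θa (b : Γ(Y, V)) = θa a := by
    show σ (Y.residue y w) * σ (Y.residue y (Y.presheaf.germ V y hy b)) =
      σ (Y.residue y (Y.presheaf.germ V y hy a))
    rw [← map_mul, ← map_mul]
    exact congrArg (fun t => σ (Y.residue y t)) hab
  have hb0 : θa (b : Γ(Y, V)) ≠ 0 := ((hb.map (Y.residue y).hom).map σ).ne_zero
  rw [eq_div_iff hb0 |>.2 h3]
  exact div_mem (hθL a) (hθL b)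

/-- Finitely many charts bound the number of generators of residue fields. -/
theorem exists_bound (sY : Y ⟶ Spec (CommRingCat.of k)) [LocallyOfFiniteType sY] [CompactSpace Y] :
    ∃ n : ℕ, ∀ (y : Y) (Ω : Type u) [Field Ω] [Algebra k Ω] (σ : Y.residueField y →+* Ω),
      Spec.map (CommRingCat.ofHom σ) ≫ Y.fromSpecResidueField y ≫ sY =
        Spec.map (CommRingCat.ofHom (algebraMap k Ω)) →
      ∃ G : Finset Ω, G.card ≤ n ∧ ∀ z, σ z ∈ IntermediateField.adjoin k (G : Set Ω) := by
  classical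
  have hloc : ∀ y : Y, ∃ (V : Y.Opens) (hV : IsAffineOpen V) (φ : CommRingCat.of k ⟶ Γ(Y, V)) (s : Finset Γ(Y, V)),
      y ∈ V ∧ Spec.map φ = hV.fromSpec ≫ sY ∧
      (letI := φ.hom.toAlgebra; Algebra.adjoin k (s : Set Γ(Y, V)) = ⊤) := by
    intro y
    obtain ⟨V, hV, hyV, -⟩ := exists_isAffineOpen_mem_and_subset (x := y) (U := ⊤) trivial
    obtain ⟨φ, hφ⟩ : ∃ φ : CommRingCat.of k ⟶ Γ(Y, V), Spec.map φ = hV.fromSpec ≫ sY := Spec.map_surjective _
    letI := φ.hom.toAlgebra
    haveI : Algebra.FiniteType k Γ(Y, V) := RingHom.finiteType_algebraMap.mp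
      ((HasRingHomProperty.Spec_iff (P := @LocallyOfFiniteType)).mp
        (hφ ▸ (inferInstance : LocallyOfFiniteType (hV.fromSpec ≫ sY))))
    obtain ⟨s, hs⟩ := (inferInstance : Algebra.FiniteType k Γ(Y, V)).out
    exact ⟨V, hV, φ, s, hyV, hφ, hs⟩
  choose V hV φ s hyV hφ hs using hloc
  obtain ⟨t, ht⟩ := isCompact_univ.elim_finite_subcover (fun y => (V y : Set Y)) (fun y => (V y).isOpen)
    (fun y _ => Set.mem_iUnion.2 ⟨y, hyV y⟩)
  refine ⟨∑ y ∈ t, (s y).card, fun y Ω _ _ σ hσ => ?_⟩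
  obtain ⟨y', hy't, hy⟩ := Set.mem_iUnion₂.1 (ht (Set.mem_univ y))
  refine ⟨(s y').image fun g => σ (Y.residue y (Y.presheaf.germ (V y') y hy g)),
    Finset.card_image_le.trans (Finset.single_le_sum (f := fun y => (s y).card) (fun _ _ => Nat.zero_le _) hy't),
    fun z => ?_⟩
  rw [Finset.coe_image]
  exact mem_adjoin_generators (hV y') (hφ y') (s y') (hs y') hy σ hσ z

section Generic

variable (sX : X ⟶ Spec (CommRingCat.of k)) (sY : Y ⟶ Spec (CommRingCat.of k)) (π : X ⟶ Y)

/-- The base change of a morphism of `k`-schemes. -/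
noncomputable abbrev baseMap (hπ : π ≫ sY = sX) {U : Scheme.{u}} (g : U ⟶ Spec (CommRingCat.of k)) :
    pullback sX g ⟶ pullback sY g :=
  pullback.map sX g sY g π (𝟙 _) (𝟙 _) (by rw [Category.comp_id, hπ]) (by simp)

variable {sX sY π}

theorem isProper_baseMap [IsProper sX] [IsSeparated sY] (hπ : π ≫ sY = sX) {U : Scheme.{u}}
    (g : U ⟶ Spec (CommRingCat.of k)) : IsProper (baseMap sX sY π hπ g) := by
  haveI : IsProper (baseMap sX sY π hπ g ≫ pullback.snd sY g) := by
    rw [baseMap, pullback.lift_snd, Category.comp_id]; infer_instance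
  exact IsProper.of_comp _ (pullback.snd sY g)

/-- Over the generic point of the parameter space no fibre has a component in the hypersurface. -/
theorem generic_good {N : ℕ} (i : X ⟶ CohB1.ProjSpaceOver N (Spec (CommRingCat.of k))) [IsClosedImmersion i]
    (hi : i ≫ CohB1.ProjSpaceOver.toBase N (Spec (CommRingCat.of k)) = sX) [IsProper sX] [IsProper sY]
    (hπ : π ≫ sY = sX) (n d : ℕ) (hd0 : 0 < d)
    (hd : ∀ y : Y, topologicalKrullDim (↥(π.fiber y) : Type u) = d)
    (hAF : ∀ s : Finset X, ∃ O : X.Opens, IsAffineOpen O ∧ ∀ x ∈ s, x ∈ O)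
    (hn : ∀ (y : Y) (Ω : Type u) [Field Ω] [Algebra k Ω] (σ : Y.residueField y →+* Ω),
      Spec.map (CommRingCat.ofHom σ) ≫ Y.fromSpecResidueField y ≫ sY =
        Spec.map (CommRingCat.ofHom (algebraMap k Ω)) →
      ∃ G : Finset Ω, G.card ≤ n ∧ ∀ z, σ z ∈ IntermediateField.adjoin k (G : Set Ω))
    (R : CommRingCat.{u}) (c : ULift.{u} (Fin (n + 1) → Fin (N + 1)) → R) (ι₀ : CommRingCat.of k ⟶ R)
    (hc : ∀ (Ω : Type u) [Field Ω] [Algebra k Ω] (ρ : R →+* Ω), ρ.comp ι₀.hom = algebraMap k Ω →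
      RingHom.ker ρ = ⊥ → AlgebraicIndependent k fun m => ρ (c m))
    (gR : Spec R ⟶ Spec (CommRingCat.of k)) (hgR : gR = Spec.map ι₀)
    (jR : pullback sX gR ⟶ CohB1.ProjSpace N R) (hj1 : jR ≫ qZ N R =
      pullback.fst sX gR ≫ i ≫ toPZ N (Spec (CommRingCat.of k)))
    (hj2 : jR ≫ CohB1.ProjSpace.toSpec N R = pullback.snd sX gR)
    (H : Set ↥(pullback sX gR))
    (hH : H = ((jR ⁻¹ᵁ Proj.basicOpen (CohB1.polyGrading N R)
      (form N (fun m : ULift.{u} (Fin (n + 1) → Fin (N + 1)) => m.down) c) :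
        (pullback sX gR).Opens) : Set ↥(pullback sX gR))ᶜ)
    (q : ↥(pullback sY gR)) (hq : (pullback.snd sY gR q).asIdeal = ⊥) :
    ¬ (d : WithBot ℕ∞) ≤
      topologicalKrullDim ↥((baseMap sX sY π hπ gR).fiberι q ⁻¹' H) := by
  intro hbad
  set πR := baseMap sX sY π hπ gR with hπR
  haveI := isProper_baseMap (sY := sY) hπ gR
  set y : Y := pullback.fst sY gR q with hy
  set fy := π.fiberToSpecResidueField y
  haveI hπp : IsProper π := by
    haveI : IsProper (π ≫ sY) := hπ ▸ (inferInstance : IsProper sX)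
    exact IsProper.of_comp π sY
  haveI : IsProper fy := MorphismProperty.pullback_snd _ _ hπp
  haveI : IsLocallyNoetherian (π.fiber y) := LocallyOfFiniteType.isLocallyNoetherian fy
  haveI : CompactSpace (π.fiber y) := QuasiCompact.compactSpace_of_compactSpace fy
  haveI : IsNoetherian (π.fiber y) := {}
  obtain ⟨O, hO, -, hOcl, hOdis⟩ := exists_disjoint_cuts (π.fiberι y) hAF d hd0 (hd y).le (n + 1 + 1)
  -- the geometric point of the base
  let Ω : Type u := AlgebraicClosure ((pullback sY gR).residueField q)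
  let σq : (pullback sY gR).residueField q →+* Ω := algebraMap _ Ω
  let σy : Y.residueField y →+* Ω := σq.comp ((pullback.fst sY gR).residueFieldMap q).hom
  obtain ⟨ρ', hρ'⟩ := Spec.map_surjective
    (Spec.map (CommRingCat.ofHom σq) ≫ (pullback sY gR).fromSpecResidueField q ≫ pullback.snd sY gR)
  letI : Algebra k Ω := (ρ'.hom.comp ι₀.hom).toAlgebra
  have halg : Spec.map (CommRingCat.ofHom (algebraMap k Ω)) = Spec.map ρ' ≫ gR := by
    exact (Spec.map_comp ι₀ ρ').trans (congrArg (Spec.map ρ' ≫ ·) hgR.symm)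
  have hσy : Spec.map (CommRingCat.ofHom σy) ≫ Y.fromSpecResidueField y =
      Spec.map (CommRingCat.ofHom σq) ≫ (pullback sY gR).fromSpecResidueField q ≫ pullback.fst sY gR := by
    rw [show CommRingCat.ofHom σy = (pullback.fst sY gR).residueFieldMap q ≫ CommRingCat.ofHom σq from rfl,
      Spec.map_comp, Category.assoc, Scheme.Hom.SpecMap_residueFieldMap_fromSpecResidueField]
  have hσyk : Spec.map (CommRingCat.ofHom σy) ≫ Y.fromSpecResidueField y ≫ sY =
      Spec.map (CommRingCat.ofHom (algebraMap k Ω)) := by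
    rw [reassoc_of% hσy, pullback.condition, halg, hρ']
    simp only [Category.assoc]
  obtain ⟨G, hGn, hG⟩ := hn y Ω σy hσyk
  have hker : RingHom.ker ρ'.hom = ⊥ := by
    have h1 : Spec.map ρ' (IsLocalRing.closedPoint Ω) = pullback.snd sY gR q := by
      rw [hρ', Scheme.Hom.comp_apply, Scheme.Hom.comp_apply]
      exact congrArg _ ((pullback sY gR).fromSpecResidueField_apply q _)
    have h2 : (IsLocalRing.closedPoint Ω).asIdeal = ⊥ :=
      IsLocalRing.isField_iff_maximalIdeal_eq.1 (Field.toIsField Ω)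
    rw [← hq, ← h1, RingHom.ker_eq_comap_bot, ← h2]
    rfl
  have hind := hc Ω ρ'.hom rfl hker
  -- points of the hypersurface
  set P := πR.fiber q
  set fq := πR.fiberToSpecResidueField q
  haveI : IsProper fq := MorphismProperty.pullback_snd _ _ inferInstance
  haveI : IsAffineHom gR := inferInstance
  haveI : (pullback sY gR).IsSeparated := ⟨by
    rw [Subsingleton.elim (terminal.from (pullback sY gR)) (pullback.snd sY gR ≫ terminal.from _)]; infer_instance⟩
  haveI : IsAffineHom ((pullback sY gR).fromSpecResidueField q) :=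
    IsAffineHom.of_comp _ (terminal.from (pullback sY gR))
  haveI : IsAffineHom (πR.fiberι q) := MorphismProperty.pullback_fst (P := @IsAffineHom) _ _ inferInstance
  haveI : IsAffineHom (pullback.fst sX gR) := MorphismProperty.pullback_fst (P := @IsAffineHom) _ _ inferInstance
  set toX : P ⟶ X := πR.fiberι q ≫ pullback.fst sX gR with htoX
  have hHc : IsClosed (πR.fiberι q ⁻¹' H) := by
    rw [hH]; exact ((jR ⁻¹ᵁ _).isOpen.isClosed_compl).preimage (πR.fiberι q).continuous
  have hpts : ∀ l : Fin (n + 1 + 1), ∃ p : P, p ∈ πR.fiberι q ⁻¹' H ∧ IsClosed ({p} : Set P) ∧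
      ∀ j, p ∉ toX ⁻¹ᵁ O l j := fun l =>
    exists_closed_notMem fq d _ (fun j => (hO l j).preimage toX) _ hHc hbad
  choose p hpH hpcl hpO using hpts
  choose τ hτp hτq using fun l => exists_point fq (p l) (hpcl l) σq
  let T : X ⟶ PZ.{u} N := i ≫ toPZ N (Spec (CommRingCat.of k))
  have hτX : ∀ l, (τ l ≫ toX) ≫ π = Spec.map (CommRingCat.ofHom σy) ≫ Y.fromSpecResidueField y := fun l => by
    rw [hσy, ← reassoc_of% (hτq l), htoX]
    simp only [Category.assoc]
    rw [← pullback.lift_fst (f := sY) (g := gR) (pullback.fst sX gR ≫ π)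
      (pullback.snd sX gR ≫ 𝟙 _) (by rw [Category.assoc, hπ, pullback.condition, Category.comp_id])]
    show τ l ≫ πR.fiberι q ≫ πR ≫ pullback.fst sY gR = _
    rw [show πR.fiberι q ≫ πR ≫ pullback.fst sY gR =
      fq ≫ (pullback sY gR).fromSpecResidueField q ≫ pullback.fst sY gR by
        rw [← Category.assoc, Scheme.Hom.fiberι, pullback.condition, Category.assoc]; rfl]
  let τF : ∀ l, Spec (CommRingCat.of Ω) ⟶ π.fiber y := fun l =>
    pullback.lift (τ l ≫ toX) (Spec.map (CommRingCat.ofHom σy)) (hτX l)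
  have hτF1 : ∀ l, τF l ≫ π.fiberι y = τ l ≫ toX := fun l => pullback.lift_fst _ _ _
  have hτF2 : ∀ l, τF l ≫ fy = Spec.map (CommRingCat.ofHom σy) := fun l => pullback.lift_snd _ _ _
  have hxO : ∀ l j, π.fiberι y (τF l (IsLocalRing.closedPoint Ω)) ∉ O l j := fun l j h => hpO l j (by
    show toX (p l) ∈ O l j
    rw [← hτp l, ← Scheme.Hom.comp_apply, ← hτF1 l, Scheme.Hom.comp_apply]
    exact h)
  -- coordinates
  choose v a hu hv halgv using fun l => exists_algebraic_coords fy (π.fiberι y ≫ T) σy (τF l)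
    (hOcl l _ (hxO l)) (hτF2 l)
  let ev := (Scheme.ΓSpecIso (CommRingCat.of Ω)).hom.hom
  let cv : ULift.{u} (Fin (n + 1 + 1)) → Fin (N + 1) → Ω := fun l b => ev (v l.down b)
  have hvT : ∀ l, (τ l ≫ πR.fiberι q ≫ jR) ≫ qZ N R = pt (v l) (a l) (hu l) := fun l => by
    rw [← hv l]
    simp only [Category.assoc, hj1]
    rw [reassoc_of% (hτF1 l), htoX]
    simp only [Category.assoc]
    rfl
  have hρτ : ∀ l, (τ l ≫ πR.fiberι q ≫ jR) ≫ CohB1.ProjSpace.toSpec N R = Spec.map (CommRingCat.ofHom ρ'.hom) := by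
    intro l
    rw [Category.assoc, Category.assoc, hj2]
    show τ l ≫ πR.fiberι q ≫ pullback.snd sX gR = Spec.map ρ'
    rw [hρ', show pullback.snd sX gR = πR ≫ pullback.snd sY gR by
      rw [hπR, baseMap, pullback.lift_snd, Category.comp_id],
      ← Category.assoc (πR.fiberι q) πR, Scheme.Hom.fiberι, pullback.condition, Category.assoc, ← reassoc_of% (hτq l)]
    rfl
  have hrel : ∀ l : ULift.{u} (Fin (n + 1 + 1)),
      ∑ m : ULift.{u} (Fin (n + 1) → Fin (N + 1)), ρ'.hom (c m) * ∏ t, cv l (m.down t) = 0 := fun l => by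
    have hmem := (mem_form_iff N (fun m : ULift.{u} (Fin (n + 1) → Fin (N + 1)) => m.down) c (Nat.succ_pos n)
      (τ l.down ≫ πR.fiberι q ≫ jR) ρ'.hom (hρτ l.down) (v l.down) (a l.down) (hu l.down) (hvT l.down))
    by_contra hne
    have h1 := hmem.2 hne
    rw [Scheme.Hom.comp_apply, Scheme.Hom.comp_apply, hτp] at h1
    have h2 : πR.fiberι q (p l.down) ∈ H := hpH l.down
    rw [hH] at h2
    exact h2 h1
  have hne : ∀ l, ∃ b, cv l b ≠ 0 := fun l => ⟨a l.down, ((hu l.down).map ev).ne_zero⟩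
  have hdist : ∀ l l', l ≠ l' → ∃ b b', cv l b * cv l' b' ≠ cv l b' * cv l' b := by
    intro l l' hll'
    by_contra hall
    push Not at hall
    set a' := a l'.down
    have hevinj : Function.Injective ev :=
      (ConcreteCategory.bijective_of_isIso (Scheme.ΓSpecIso (CommRingCat.of Ω)).hom).1
    have hval : IsUnit (v l.down a') := by
      haveI : IsField Γ(Spec (CommRingCat.of Ω), ⊤) :=
        (RingEquiv.ofBijective ev (ConcreteCategory.bijective_of_isIso
          (Scheme.ΓSpecIso (CommRingCat.of Ω)).hom)).toMulEquiv.isField (Field.toIsField Ω)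
      have h0 : ev (v l.down a') ≠ 0 := fun h0 => by
        obtain ⟨b, hb⟩ := hne l
        have h := hall b a'
        simp only [cv] at h hb
        rw [h0, zero_mul] at h
        rcases mul_eq_zero.1 h with h | h
        · exact hb h
        · exact ((hu l'.down).map ev).ne_zero h
      letI := ‹IsField Γ(Spec (CommRingCat.of Ω), ⊤)›.toField
      exact isUnit_iff_ne_zero.2 fun h => h0 (by rw [show v l.down a' = (0 : Γ(Spec (CommRingCat.of Ω), ⊤)) from h]; exact map_zero ev)
    have hpt : pt (v l.down) (a l.down) (hu l.down) = pt (v l'.down) a' (hu l'.down) := by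
      refine pt_eq_of_prop _ _ _ _ _ _ hval fun b => hevinj ?_
      rw [map_mul, map_mul, mul_comm (ev (v l'.down b))]
      exact hall b a'
    rw [← hv, ← hv] at hpt
    have heq : τ l.down ≫ toX = τ l'.down ≫ toX := by
      rw [← cancel_mono i]
      refine po_ext ?_ ?_
      · simpa only [Category.assoc, reassoc_of% (hτF1 l.down), reassoc_of% (hτF1 l'.down), T] using hpt
      · rw [Category.assoc, Category.assoc, hi, Category.assoc, Category.assoc, hi]
        calc (τ l.down ≫ toX) ≫ sX = ((τ l.down ≫ toX) ≫ π) ≫ sY := by rw [Category.assoc _ π, hπ]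
          _ = ((τ l'.down ≫ toX) ≫ π) ≫ sY := by rw [hτX, hτX]
          _ = (τ l'.down ≫ toX) ≫ sX := by rw [Category.assoc _ π, hπ]
    have hc' : τF l.down (IsLocalRing.closedPoint Ω) = τF l'.down (IsLocalRing.closedPoint Ω) := by
      apply (π.fiberι y).isEmbedding.injective
      rw [← Scheme.Hom.comp_apply, ← Scheme.Hom.comp_apply, hτF1, hτF1, heq]
    exact hll' (ULift.ext _ _ (hOdis _ _ _ (hxO l.down) (fun j => hc' ▸ hxO l'.down j)))
  refine no_relation G (fun m => ρ'.hom (c m)) hind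
    (fun (l : ULift.{u} (Fin (n + 1 + 1))) (m : ULift.{u} (Fin (n + 1) → Fin (N + 1))) => ∏ t, cv l (m.down t))
    (fun l m => ?_) ?_ hrel ?_
  · rw [← mem_algebraicClosure_iff]
    refine prod_mem fun t _ => mem_algebraicClosure_iff.2 ?_
    obtain ⟨P', hP', hP0⟩ := halgv l.down (m.down t)
    letI := (σy.codRestrict (IntermediateField.adjoin k (G : Set Ω)) hG).toAlgebra
    refine ⟨P'.map (σy.codRestrict (IntermediateField.adjoin k (G : Set Ω)) hG), ?_, ?_⟩
    · exact Polynomial.Monic.ne_zero (hP'.map _)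
    · rw [Polynomial.aeval_def, Polynomial.eval₂_map]
      exact hP0
  · have h := linearIndependent_monomials cv (e := n + 1) (by simp) hne hdist
    rw [Fintype.linearIndependent_iff] at h ⊢
    intro g hg
    refine h g ?_
    funext m
    have := congrFun hg ⟨m⟩
    simpa [Finset.sum_apply] using this
  · simp; omega

end Generic

end EquiDimProjLib
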