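import Groth.Agent.EquiDimProjLib.Main
import Groth.Agent.JacAlbLib.PicDegFine
import Groth.Agent.AmpleDevLib.Components

/-!
# Cutting an equidimensional projective family down by one dimension
-/

set_option autoImplicit false
set_option backward.isDefEq.respectTransparency false
set_option backward.isDefEq.respectTransparency.types false
set_option maxHeartbeats 1000000

universe u

open CategoryTheory CategoryTheory.Limits AlgebraicGeometry TopologicalSpace Topology
open ChowLib

namespace EquiDimProjLib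

theorem le_of_not_le {a : WithBot ℕ∞} {d : ℕ} (h : ¬ a ≤ (d : WithBot ℕ∞)) : ((d + 1 : ℕ) : WithBot ℕ∞) ≤ a := by
  induction a using WithBot.recBotCoe with
  | bot => simp at h
  | coe e =>
    induction e using ENat.recTopCoe with
    | top => exact_mod_cast le_top (α := ℕ∞)
    | coe e => norm_cast at h ⊢; omega

/-- Chains lift along closed maps. -/
theorem lift_chain {A B : Type u} [TopologicalSpace A] [TopologicalSpace B] {f : A → B} (hf : IsClosedMap f) :
    ∀ (n : ℕ) (c : Fin (n + 1) → B), FibDimLib.IsSpecChain c → ∀ a, f a = c 0 →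
      ∃ a' : Fin (n + 1) → A, FibDimLib.IsSpecChain a' ∧ (∀ j, f (a' j) = c j) ∧ a' 0 = a := by
  intro n
  induction n with
  | zero =>
    intro c hc a ha
    refine ⟨fun _ => a, ⟨fun i j _ => Subsingleton.elim (α := Fin 1) i j, fun _ _ _ => specializes_rfl⟩, fun j => ?_, rfl⟩
    rwa [Subsingleton.elim (α := Fin 1) j 0]
  | succ n ih =>
    intro c hc a ha
    obtain ⟨b, hb, hfb⟩ := (hf _ (isClosed_closure (s := ({a} : Set A)))).stableUnderSpecialization
      (hc.2 0 1 (Fin.zero_le _)) ⟨a, subset_closure rfl, ha⟩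
    obtain ⟨a', ha', hfa', ha'0⟩ := ih (fun j => c j.succ)
      ⟨fun i j h => Fin.succ_injective _ (hc.1 h), fun i j h => hc.2 _ _ (Fin.succ_le_succ_iff.2 h)⟩ b hfb
    refine ⟨Fin.cons a a', ⟨fun i j h => ?_, fun i j hij => ?_⟩, Fin.cases ha hfa', rfl⟩
    · have hfi : ∀ l, f ((Fin.cons a a' : Fin (n + 2) → A) l) = c l := Fin.cases ha hfa'
      exact hc.1 ((hfi i).symm.trans ((congrArg f h).trans (hfi j)))
    · induction i using Fin.cases with
      | zero =>
        induction j using Fin.cases with
        | zero => exact specializes_rfl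
        | succ j =>
          rw [Fin.cons_zero, Fin.cons_succ]
          exact (specializes_iff_mem_closure.2 hb).trans (ha'0 ▸ ha'.2 0 j (Fin.zero_le _))
      | succ i =>
        induction j using Fin.cases with
        | zero => exact absurd hij (by simp)
        | succ j =>
          rw [Fin.cons_succ, Fin.cons_succ]
          exact ha'.2 i j (Fin.succ_le_succ_iff.1 hij)

variable {k : Type u} [Field k] {X Y : Scheme.{u}} {sX : X ⟶ Spec (CommRingCat.of k)}
  {sY : Y ⟶ Spec (CommRingCat.of k)} {π : X ⟶ Y}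

/-- One step: cut all fibres by a suitable hypersurface defined over a finite extension. -/
theorem exists_step (hπ : π ≫ sY = sX) (hX : RelProj.IsHProjective sX) [IsProper sY] (d : ℕ)
    (hd : ∀ y : Y, topologicalKrullDim (↥(π.fiber y) : Type u) = ((d + 1 : ℕ) : WithBot ℕ∞)) :
    ∃ (X' : Scheme.{u}) (sX' : X' ⟶ Spec (CommRingCat.of k)) (π' : X' ⟶ Y), π' ≫ sY = sX' ∧
      RelProj.IsHProjective sX' ∧ ∀ y : Y, topologicalKrullDim (↥(π'.fiber y) : Type u) = (d : WithBot ℕ∞) := by
  classical
  haveI := ProjBunLib.isProper_of_isHProjective hX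
  obtain ⟨N, i, hi, hif⟩ := hX
  haveI := hi
  have hA : CohB1.IsAmple (KFlatLib.pb i (KRRRegLib.O1 N (Spec (CommRingCat.of k)))) :=
    AmpleDevLib.isAmple_pb i (KRRRegLib.isInvertible_O1 N _) (ProjKLib.isAmple_O1 N (CommRingCat.of k))
  have hAF : ∀ s : Finset X, ∃ O : X.Opens, IsAffineOpen O ∧ ∀ x ∈ s, x ∈ O :=
    fun s => AmpleThLib.exists_affineOpen_finset hA s
  haveI : CompactSpace Y := QuasiCompact.compactSpace_of_compactSpace sY
  obtain ⟨n, hn⟩ := exists_bound sY
  -- the parameter space
  set M := ULift.{u} (Fin (n + 1) → Fin (N + 1))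
  let R : CommRingCat.{u} := CommRingCat.of (MvPolynomial M k)
  let ι₀ : CommRingCat.of k ⟶ R := CommRingCat.ofHom (MvPolynomial.C : k →+* MvPolynomial M k)
  let gR : Spec R ⟶ Spec (CommRingCat.of k) := Spec.map ι₀
  obtain ⟨jR, hjR, hj1, hj2⟩ := exists_embedding N R sX i hif gR
  let D : (pullback sX gR).Opens := jR ⁻¹ᵁ Proj.basicOpen (CohB1.polyGrading N R)
    (form N (fun m : M => m.down) (MvPolynomial.X : M → R))
  haveI := hjR
  have hDaff : IsAffineOpen D := (isAffineOpen_form N _ _ (Nat.succ_pos n)).preimage jR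
  let H : Closeds ↥(pullback sX gR) := ⟨(D : Set ↥(pullback sX gR))ᶜ, D.isOpen.isClosed_compl⟩
  let Hs := (Scheme.IdealSheafData.vanishingIdeal H).subscheme
  let ιH : Hs ⟶ pullback sX gR := (Scheme.IdealSheafData.vanishingIdeal H).subschemeι
  have hιH : Set.range ιH = (H : Set ↥(pullback sX gR)) :=
    (Scheme.IdealSheafData.vanishingIdeal H).range_subschemeι.trans
      (Scheme.IdealSheafData.coe_support_vanishingIdeal H)
  set πR := baseMap sX sY π hπ gR with hπR
  haveI := isProper_baseMap (sY := sY) hπ gR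
  set h := ιH ≫ πR with hh
  haveI : IsProper h := inferInstance
  set B : Set ↥(pullback sY gR) := {q | topologicalKrullDim (h.fiber q) ≤ (d : WithBot ℕ∞)}ᶜ with hB
  have hBc : IsClosed B := (FibDimLib.isOpen_fiber_dim_le h h.isClosedMap _).isClosed_compl
  set pU := pullback.snd sY gR
  have hU : IsClosed (pU '' B) := pU.isClosedMap _ hBc
  -- the generic parameter is good
  have hgen : (⊥ : Ideal R).IsPrime := Ideal.isPrime_bot
  have hη : (⟨⊥, hgen⟩ : PrimeSpectrum R) ∉ pU '' B := by
    rintro ⟨q, hq, hqη⟩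
    have hbad : ((d + 1 : ℕ) : WithBot ℕ∞) ≤ topologicalKrullDim ↥(πR.fiberι q ⁻¹' (H : Set ↥(pullback sX gR))) := by
      refine (le_of_not_le hq).trans ?_
      have hmem : ∀ z : h.fiber q, πR (ιH (h.fiberι q z)) = q := fun z =>
        (Scheme.Hom.comp_apply ιH πR _).symm.trans (h.fiberHomeo q z).2
      let a : h.fiber q → ↥(πR.fiberι q ⁻¹' (H : Set ↥(pullback sX gR))) := fun z =>
        ⟨(πR.fiberHomeo q).symm ⟨ιH (h.fiberι q z), hmem z⟩, by
          show πR.fiberι q ((πR.fiberHomeo q).symm ⟨_, hmem z⟩) ∈ (H : Set ↥(pullback sX gR))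
          rw [Scheme.Hom.fiberι_fiberHomeo_symm, ← hιH]
          exact ⟨_, rfl⟩⟩
      have hac : (fun z => πR.fiberι q (a z).1) = fun z => ιH (h.fiberι q z) := funext fun z => by
        simp [a]
      refine IsInducing.topologicalKrullDim_le (f := a) ?_
      refine .of_comp ?_ (continuous_subtype_val.comp' (continuous_id) : Continuous fun w : ↥(πR.fiberι q ⁻¹' (H : Set ↥(pullback sX gR))) => w.1) ?_
      · exact ((πR.fiberHomeo q).symm.continuous.comp ((ιH.continuous.comp (h.fiberι q).continuous).subtype_mk _)).subtype_mk _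
      · refine .of_comp (by fun_prop) (πR.fiberι q).continuous ?_
        show IsInducing (fun z => πR.fiberι q (a z).1)
        rw [hac]
        exact (ιH.isEmbedding.comp (h.fiberι q).isEmbedding).isInducing
    refine generic_good i hif hπ n (d + 1) (Nat.succ_pos d) hd hAF hn R (MvPolynomial.X : M → R) ι₀
      (fun Ω _ _ ρ hρ hker => ?_) gR rfl jR hj1 hj2 _ rfl q (congrArg PrimeSpectrum.asIdeal hqη) hbad
    let ρa : MvPolynomial M k →ₐ[k] Ω := { ρ with commutes' := fun c => RingHom.congr_fun hρ c }
    have hρa : MvPolynomial.aeval (fun m => ρ (MvPolynomial.X m)) = ρa := MvPolynomial.algHom_ext fun m => by simp [ρa]; rfl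
    rw [algebraicIndependent_iff_injective_aeval, hρa]
    exact (RingHom.injective_iff_ker_eq_bot ρ).2 hker
  -- a closed parameter
  haveI : JacobsonSpace (PrimeSpectrum R) := by
    haveI : IsJacobsonRing R := isJacobsonRing_of_finiteType (A := k)
    infer_instance
  obtain ⟨u, hu, huc⟩ := nonempty_inter_closedPoints (Z := (pU '' B)ᶜ) ⟨_, hη⟩ hU.isOpen_compl.isLocallyClosed
  haveI hum : u.asIdeal.IsMaximal := (PrimeSpectrum.isClosed_singleton_iff_isMaximal u).1 huc
  let K : CommRingCat.{u} := CommRingCat.of (R ⧸ u.asIdeal)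
  let js : Spec K ⟶ Spec R := Spec.map (CommRingCat.ofHom (Ideal.Quotient.mk u.asIdeal))
  haveI : IsClosedImmersion js := IsClosedImmersion.spec_of_surjective _ Ideal.Quotient.mk_surjective
  let g' : Spec K ⟶ Spec (CommRingCat.of k) := js ≫ gR
  haveI : IsFinite g' := by
    haveI : LocallyOfFiniteType gR := by
      rw [HasRingHomProperty.Spec_iff (P := @LocallyOfFiniteType)]
      exact RingHom.finiteType_algebraMap.2 (inferInstance : Algebra.FiniteType k (MvPolynomial M k))
    haveI : LocallyOfFiniteType g' := inferInstance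
    letI : Field K := Ideal.Quotient.field u.asIdeal
    rw [isFinite_iff_locallyOfFiniteType_of_jacobsonSpace]
    infer_instance
  haveI : Surjective g' := by
    haveI : Nontrivial K := Ideal.Quotient.nontrivial_iff.2 hum.ne_top
    obtain ⟨p⟩ := (inferInstance : Nonempty (PrimeSpectrum K))
    exact ⟨fun x => ⟨p, Subsingleton.elim (α := PrimeSpectrum k) _ _⟩⟩
  let fstU := pullback.fst sX g'
  haveI : IsFinite fstU := MorphismProperty.pullback_fst (P := @IsFinite) _ _ inferInstance
  haveI : Surjective fstU := MorphismProperty.pullback_fst (P := @Surjective) _ _ inferInstance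
  let e : pullback sX g' ⟶ pullback sX gR := pullback.map sX g' sX gR (𝟙 X) js (𝟙 _) (by simp) (by simp [g'])
  let eY : pullback sY g' ⟶ pullback sY gR := pullback.map sY g' sY gR (𝟙 Y) js (𝟙 _) (by simp) (by simp [g'])
  have he1 : e ≫ pullback.fst sX gR = fstU := by simp [e, fstU, pullback.map]
  haveI : IsClosedImmersion e := by
    haveI : IsProper (e ≫ pullback.fst sX gR) := by rw [he1]; infer_instance
    haveI : IsAffineHom (pullback.fst sX gR) := MorphismProperty.pullback_fst (P := @IsAffineHom) _ _ inferInstance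
    haveI : IsProper e := IsProper.of_comp e (pullback.fst sX gR)
    haveI : Mono e := ⟨fun {W} a b hab => by
      have h1 := congrArg (· ≫ pullback.fst sX gR) hab
      have h2 := congrArg (· ≫ pullback.snd sX gR) hab
      simp only [Category.assoc, e, pullback.map, pullback.lift_fst, pullback.lift_snd] at h1 h2
      refine pullback.hom_ext (by simpa using h1) ?_
      rw [← cancel_mono js]
      simpa using h2⟩
    exact (IsClosedImmersion.iff_isProper_and_mono (f := e)).mpr ⟨inferInstance, inferInstance⟩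
  -- the cut
  set Du : (pullback sX g').Opens := e ⁻¹ᵁ D
  have hDu : IsAffineOpen Du := hDaff.preimage e
  let Zc : Closeds ↥(pullback sX g') := ⟨(Du : Set ↥(pullback sX g'))ᶜ, Du.isOpen.isClosed_compl⟩
  let ιZ := (Scheme.IdealSheafData.vanishingIdeal Zc).subschemeι
  have hιZ : Set.range ιZ = (Zc : Set ↥(pullback sX g')) :=
    (Scheme.IdealSheafData.vanishingIdeal Zc).range_subschemeι.trans
      (Scheme.IdealSheafData.coe_support_vanishingIdeal Zc)
  haveI : IsFinite (ιZ ≫ fstU) := inferInstance
  haveI : IsProper ((ιZ ≫ fstU) ≫ sX) := inferInstance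
  refine ⟨_, (ιZ ≫ fstU) ≫ sX, (ιZ ≫ fstU) ≫ π, by rw [Category.assoc _ π, hπ], ?_, fun y => ?_⟩
  · exact JacAlbLib.isHProjective_of_ample _ (AmpleDevLib.isAmple_pb (ιZ ≫ fstU)
      (AmpleDevLib.isInvertible_pb i (KRRRegLib.isInvertible_O1 N _)) hA)
  set Sy : Set ↥(pullback sX g') := (Du : Set ↥(pullback sX g'))ᶜ ∩ (fstU ≫ π) ⁻¹' {y}
  have hEq : topologicalKrullDim (((ιZ ≫ fstU) ≫ π).fiber y) = topologicalKrullDim Sy := by
    set f' := (ιZ ≫ fstU) ≫ π
    have hemb : IsEmbedding (fun z : f'.fiber y => ιZ (f'.fiberι y z)) :=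
      ιZ.isEmbedding.comp (f'.fiberι y).isEmbedding
    have hr : Set.range (fun z : f'.fiber y => ιZ (f'.fiberι y z)) = Sy := by
      ext z
      constructor
      · rintro ⟨w, rfl⟩
        refine ⟨hιZ.le ⟨_, rfl⟩, ?_⟩
        show (fstU ≫ π) (ιZ (f'.fiberι y w)) = y
        rw [← Scheme.Hom.comp_apply, ← Category.assoc]
        exact (f'.fiberHomeo y w).2
      · rintro ⟨hz, hzy⟩
        obtain ⟨w, rfl⟩ := hιZ.ge hz
        have hw : f' w = y := by
          show ((ιZ ≫ fstU) ≫ π) w = y
          rw [Category.assoc, Scheme.Hom.comp_apply]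
          exact hzy
        exact ⟨(f'.fiberHomeo y).symm ⟨w, hw⟩, by simp⟩
    exact ((hemb.toHomeomorph).trans (Homeomorph.setCongr hr)).isHomeomorph.topologicalKrullDim_eq _
  haveI : IsProper π := by
    haveI : IsProper (π ≫ sY) := hπ ▸ (inferInstance : IsProper sX)
    exact IsProper.of_comp π sY
  set f₁ := fstU ≫ π
  set F' := f₁.fiber y
  haveI : IsProper (f₁.fiberToSpecResidueField y) := MorphismProperty.pullback_snd _ _ inferInstance
  haveI : Y.IsSeparated := ⟨by
    rw [Subsingleton.elim (terminal.from Y) (sY ≫ terminal.from _)]; infer_instance⟩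
  haveI : IsAffineHom (Y.fromSpecResidueField y) := IsAffineHom.of_comp _ (terminal.from Y)
  haveI : IsAffineHom (f₁.fiberι y) := MorphismProperty.pullback_fst (P := @IsAffineHom) _ _ inferInstance
  rw [hEq]
  apply le_antisymm
  · -- no component survives
    by_contra hlt
    haveI : QuasiSober Sy := by
      have : IsClosed ((Du : Set ↥(pullback sX g'))ᶜ) := Du.isOpen.isClosed_compl
      have hr : Sy = f₁.fiberι y '' (f₁.fiberι y ⁻¹' (Du : Set ↥(pullback sX g'))ᶜ) := by
        rw [Set.image_preimage_eq_inter_range, Scheme.Hom.range_fiberι]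
      haveI : QuasiSober ↥(f₁.fiberι y ⁻¹' (Du : Set ↥(pullback sX g'))ᶜ) :=
        (this.preimage (f₁.fiberι y).continuous).isClosedEmbedding_subtypeVal.quasiSober
      have hemb := (f₁.fiberι y).isEmbedding.comp
        (IsEmbedding.subtypeVal (p := (· ∈ f₁.fiberι y ⁻¹' (Du : Set ↥(pullback sX g'))ᶜ)))
      exact (hemb.toHomeomorph.trans (Homeomorph.setCongr (by
        rw [Set.range_comp, Subtype.range_coe_subtype, hr]; rfl))).symm.isClosedEmbedding.quasiSober
    obtain ⟨c, hc⟩ := FibDimLib.exists_specChain (le_of_not_le hlt)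
    set πu := baseMap sX sY π hπ g'
    have hsquare : e ≫ πR = πu ≫ eY := by
      apply pullback.hom_ext <;> simp [e, eY, πu, hπR, baseMap, pullback.map]
    set q' := πu (c 0).1
    have hq'y : ∀ j, pullback.fst sY g' (πu (c j).1) = y := fun j => by
      rw [← Scheme.Hom.comp_apply, show πu ≫ pullback.fst sY g' = fstU ≫ π by simp [πu, baseMap, fstU]]
      exact (c j).2.2
    haveI : IsFinite (pullback.fst sY g') := MorphismProperty.pullback_fst (P := @IsFinite) _ _ inferInstance
    have hsame : ∀ j, πu (c j).1 = q' := fun j => by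
      have hdisc := (pullback.fst sY g').isDiscrete_preimage_singleton y
      rw [isDiscrete_iff_discreteTopology] at hdisc
      have hs : (⟨q', hq'y 0⟩ : ↥(pullback.fst sY g' ⁻¹' {y})) ⤳ ⟨πu (c j).1, hq'y j⟩ := by
        rw [← IsInducing.subtypeVal.specializes_iff]
        exact ((hc.2 0 j (Fin.zero_le _)).map continuous_subtype_val).map πu.continuous
      exact (congrArg Subtype.val hs.eq).symm
    have hqB : eY q' ∈ B := by
      intro hle
      have hmem : ∀ j, ∃ w : Hs, ιH w = e (c j).1 := fun j => hιH.ge (fun hD => (c j).2.1 hD)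
      choose w hw using hmem
      have hwq : ∀ j, h (w j) = eY q' := fun j => by
        rw [hh, Scheme.Hom.comp_apply, hw, ← Scheme.Hom.comp_apply, hsquare, Scheme.Hom.comp_apply, hsame]
      have hch : FibDimLib.IsSpecChain (fun j => (h.fiberHomeo (eY q')).symm ⟨w j, hwq j⟩) := by
        refine ⟨fun a b hab => ?_, fun a b hab => ?_⟩
        · have h1 : w a = w b := congrArg Subtype.val ((h.fiberHomeo (eY q')).symm.injective hab)
          exact hc.1 (Subtype.ext (e.isEmbedding.injective (by rw [← hw, ← hw, h1])))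
        · rw [(h.fiberHomeo (eY q')).symm.isInducing.specializes_iff, ← IsInducing.subtypeVal.specializes_iff,
            ← ιH.isEmbedding.isInducing.specializes_iff]
          show ιH (w a) ⤳ ιH (w b)
          rw [hw, hw]
          exact ((hc.2 a b hab).map continuous_subtype_val).map e.continuous
      have := hch.le_topologicalKrullDim.trans hle
      norm_cast at this
      omega
    refine hu ⟨eY q', hqB, ?_⟩
    show pullback.snd sY gR (eY q') = u
    rw [← Scheme.Hom.comp_apply, show eY ≫ pullback.snd sY gR = pullback.snd sY g' ≫ js by simp [eY, pullback.map],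
      Scheme.Hom.comp_apply]
    have hp : (pullback.snd sY g' q' : PrimeSpectrum K).asIdeal = ⊥ := by
      letI : Field K := Ideal.Quotient.field u.asIdeal
      exact Ideal.eq_bot_of_prime _
    apply PrimeSpectrum.ext
    show Ideal.comap (Ideal.Quotient.mk u.asIdeal) (pullback.snd sY g' q' : PrimeSpectrum K).asIdeal = u.asIdeal
    rw [hp, ← RingHom.ker_eq_comap_bot, Ideal.mk_ker]
  · -- the hypersurface meets every component
    obtain ⟨c, hc⟩ := FibDimLib.exists_specChain (hd y).ge
    have hc' : FibDimLib.IsSpecChain fun j => π.fiberι y (c j) :=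
      ⟨fun a b hab => hc.1 ((π.fiberι y).isEmbedding.injective hab),
        fun a b hab => (hc.2 a b hab).map (π.fiberι y).continuous⟩
    obtain ⟨z₀, hz₀⟩ := fstU.surjective (π.fiberι y (c 0))
    obtain ⟨a, ha, hfa, -⟩ := lift_chain fstU.isClosedMap (d + 1) _ hc' z₀ hz₀
    have hay : ∀ j, f₁ (a j) = y := fun j => by
      show (fstU ≫ π) (a j) = y
      rw [Scheme.Hom.comp_apply, hfa]
      exact (π.fiberHomeo y (c j)).2
    have hch : FibDimLib.IsSpecChain (fun j => (f₁.fiberHomeo y).symm ⟨a j, hay j⟩) :=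
      ⟨fun i j hij => ha.1 (congrArg Subtype.val ((f₁.fiberHomeo y).symm.injective hij)),
        fun i j hij => by
          rw [(f₁.fiberHomeo y).symm.isInducing.specializes_iff, ← IsInducing.subtypeVal.specializes_iff]
          exact ha.2 i j hij⟩
    have hdim : ((d + 1 : ℕ) : WithBot ℕ∞) ≤ topologicalKrullDim (Set.univ : Set F') :=
      hch.le_topologicalKrullDim.trans ((Homeomorph.Set.univ F').isHomeomorph.topologicalKrullDim_eq _).ge
    refine (QFactDescLib.dim_cut_affine (f₁.fiberToSpecResidueField y) (hDu.preimage (f₁.fiberι y))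
      isClosed_univ hdim).trans (IsInducing.topologicalKrullDim_le
        (f := fun z : ↥((Set.univ : Set F') \ (f₁.fiberι y ⁻¹ᵁ Du : F'.Opens)) =>
          (⟨f₁.fiberι y z.1, fun hz => z.2.2 hz, (f₁.fiberHomeo y z.1).2⟩ : Sy)) ?_)
    exact .of_comp (by fun_prop) (by fun_prop : Continuous fun a : Sy => a.1)
      ((f₁.fiberι y).isEmbedding.isInducing.comp IsInducing.subtypeVal)

end EquiDimProjLib
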